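import Cfsg.Agent.Lib.NoThreeOrders.Odd
import Cfsg.Agent.Lib.GW.KleinIndex

/-!
Klein four Sylow 2-subgroups: the core of the centralizer of an involution, and the simple case.
-/

set_option autoImplicit false
set_option linter.style.haveILetI false
set_option linter.unusedSectionVars false

open Cfsg CfsgLib.GW.Klein
open scoped Pointwise

namespace CfsgLib.NoThreeOrders

variable {G : Type*} [Group G] [Finite G] {q : ℕ} {P : Sylow 2 G}

theorem klein_sq (d : KleinData P) : ∀ a ∈ (P : Subgroup G), a * a = 1 := fun a ha => by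
  haveI := d.klein
  exact congrArg Subtype.val (IsKleinFour.mul_self (⟨a, ha⟩ : (P : Subgroup G)))

theorem klein_noncyclic (d : KleinData P) : ¬ IsCyclic (P : Subgroup G) := by
  haveI := d.klein
  exact IsKleinFour.not_isCyclic

/-- An element of `N(P)` moving `t` to a given involution of `P`. -/
theorem exists_mover (d : KleinData P) {s : G} (hs : s ∈ (P : Subgroup G)) (hs2 : orderOf s = 2) :
    ∃ y ∈ Subgroup.normalizer ((P : Subgroup G) : Set G), y * d.t * y⁻¹ = s := by
  haveI : Fact (Nat.Prime 2) := ⟨Nat.prime_two⟩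
  haveI : IsMulCommutative (P : Subgroup G) := isMulCommutative_of_mul_self (klein_sq d)
  obtain ⟨g, hg⟩ := isConj_iff.1 (d.oneClass s hs2)
  obtain ⟨n, hn, he⟩ := P.conj_eq_normalizer_conj_of_mem d.t g⁻¹ d.t_mem
    (by rw [inv_inv, hg]; exact hs)
  refine ⟨n⁻¹, inv_mem hn, ?_⟩
  rw [inv_inv] at he ⊢
  rw [← he, hg]

theorem core_isPGroup (h : TwoQ G q) (d : KleinData P) : IsPGroup q d.core :=
  h.isPGroup_of_odd (klein_sq d) (klein_noncyclic d)
    (d.P_le_cent.trans (CfsgLib.Balance.centralizer_le_normalizer_centralizerPPrimeCore 2 d.t)) d.odd_core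

theorem commute_of_mem_D (d : KleinData P) {p x : G} (hp : p ∈ (P : Subgroup G)) (hx : x ∈ d.D) :
    Commute p x := by
  have h1 : Commute d.t x := (d.t_mem_core_conj hx.1).symm
  have h2 : Commute d.a x := (Subgroup.mem_centralizer_singleton_iff.1 hx.2 : Commute x d.a).symm
  rcases d.P_elems hp with rfl | rfl | rfl | rfl
  exacts [Commute.one_left x, h1, h2, h2.mul_left h1]

/-- An element of odd order centralising `P` lies in `D`. -/
theorem mem_D_of_commute (d : KleinData P) {x : G} (hx : Odd (orderOf x))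
    (hc : ∀ p ∈ (P : Subgroup G), Commute x p) : x ∈ d.D :=
  ⟨d.mem_core (Subgroup.mem_centralizer_singleton_iff.2 (hc _ d.t_mem).eq) hx,
    Subgroup.mem_centralizer_singleton_iff.2 (hc _ d.a_mem).eq⟩

theorem normalizer_le_normalizer_D (d : KleinData P) :
    Subgroup.normalizer ((P : Subgroup G) : Set G) ≤ Subgroup.normalizer (d.D : Set G) := by
  intro n hn
  refine CfsgLib.CoprimeAction.mem_normalizer_of_conj_mem fun u hu => mem_D_of_commute d ?_ fun p hp => ?_
  · rw [show orderOf (n * u * n⁻¹) = orderOf u from (MulEquiv.orderOf_eq (MulAut.conj n) u)]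
    exact d.odd_core.of_dvd_nat (Subgroup.orderOf_dvd_natCard _ hu.1)
  · have hc := commute_of_mem_D d ((Subgroup.mem_normalizer_iff''.1 hn p).1 hp) hu
    calc n * u * n⁻¹ * p = n * (u * (n⁻¹ * p * n)) * n⁻¹ := by group
      _ = n * ((n⁻¹ * p * n) * u) * n⁻¹ := by rw [hc.eq]
      _ = p * (n * u * n⁻¹) := by group

/-- If `C(P) ≠ P` then the core of `C(t)` centralises `P`. -/
theorem core_eq_D (h : TwoQ G q) (d : KleinData P) (hD : d.D ≠ ⊥) : d.core = d.D := by
  classical
  haveI : Fact (Nat.Prime 2) := ⟨Nat.prime_two⟩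
  haveI : Fact q.Prime := ⟨h.hq⟩
  by_contra hne
  have hlt : d.D < d.core := lt_of_le_of_ne inf_le_left (Ne.symm hne)
  have hcq := core_isPGroup h d
  haveI := hcq.isNilpotent
  obtain ⟨w, hw, hw'⟩ := SetLike.exists_of_lt
    (Group.normalizerCondition_of_isNilpotent (d.D.subgroupOf d.core)
      (lt_top_iff_ne_top.2 fun e => hlt.not_ge (Subgroup.subgroupOf_eq_top.1 e)))
  have hwN : (w : G) ∈ Subgroup.normalizer (d.D : Set G) := by
    refine CfsgLib.CoprimeAction.mem_normalizer_of_conj_mem fun x hx => ?_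
    exact (Subgroup.mem_normalizer_iff.1 hw ⟨x, hlt.le hx⟩).1 hx
  have hwD : (w : G) ∉ d.D := hw'
  -- `N(D)` is solvable
  have hPD : ∀ p ∈ (P : Subgroup G), ∀ x ∈ d.D, Commute p x := fun p hp x hx => commute_of_mem_D d hp hx
  set M := Subgroup.normalizer (d.D : Set G) with hMdef
  have hPC : (P : Subgroup G) ≤ Subgroup.centralizer (d.D : Set G) := fun p hp =>
    Subgroup.mem_centralizer_iff.2 fun x hx => (hPD p hp x hx).eq.symm
  have hCM : Subgroup.centralizer (d.D : Set G) ≤ M := fun g hg => Subgroup.mem_normalizer_iff.2 fun x => by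
    constructor
    · intro hx
      rw [← Subgroup.mem_centralizer_iff.1 hg x hx, mul_inv_cancel_right]
      exact hx
    · intro hx
      have := Subgroup.mem_centralizer_iff.1 hg _ hx
      rw [inv_mul_cancel_right] at this
      have e : g * x * g⁻¹ = x := mul_left_cancel (this.symm.trans (by group))
      rwa [e] at hx
  haveI hsolC : Group.IsSolvable (Subgroup.centralizer (d.D : Set G)) := by
    obtain ⟨⟨x, hx⟩, hx1'⟩ := Subgroup.ne_bot_iff_exists_ne_one.1 hD
    have hx1 : x ≠ 1 := fun e => hx1' (Subtype.ext e)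
    have hxo : orderOf (x : G) = q := orderOf_eq_prime (h.pow_q_of_isPGroup hcq hx.1) hx1
    haveI := h.isSolvable_centralizer (a := (x : G)) (Or.inr hxo)
    exact CfsgLib.CoprimeAction.isSolvable_of_le (Subgroup.centralizer_le (s := ({x} : Set G)) (Set.singleton_subset_iff.2 hx))
  haveI hCn : ((Subgroup.centralizer (d.D : Set G)).subgroupOf M).Normal := by
    rw [← Subgroup.normalizerMonoidHom_ker]
    infer_instance
  haveI : Group.IsSolvable M := by
    haveI : Group.IsSolvable ((Subgroup.centralizer (d.D : Set G)).subgroupOf M) :=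
      Group.isSolvable_of_isSolvable_injective (f := (Subgroup.subgroupOfEquivOfLe hCM).toMonoidHom)
        (Subgroup.subgroupOfEquivOfLe hCM).injective
    have hodd : Odd (Nat.card (M ⧸ (Subgroup.centralizer (d.D : Set G)).subgroupOf M)) := by
      rw [← Subgroup.index_eq_card]
      refine Nat.not_even_iff_odd.1 fun he => P.not_dvd_index ((even_iff_two_dvd.1 he).trans ?_)
      exact ((Subgroup.index_dvd_of_le fun x (hx : x ∈ (P : Subgroup G).subgroupOf M) => hPC hx)).trans
        (Subgroup.relIndex_dvd_index_of_le (hPC.trans hCM))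
    have h2 : Group.IsSolvable (M ⧸ (Subgroup.centralizer (d.D : Set G)).subgroupOf M) :=
      Cfsg.Agent.S0205.result hodd
    exact Group.isSolvable_of_ker_le_range ((Subgroup.centralizer (d.D : Set G)).subgroupOf M).subtype
      (QuotientGroup.mk' ((Subgroup.centralizer (d.D : Set G)).subgroupOf M)) (by simp)
  have hPM : (P : Subgroup G) ≤ M := hPC.trans hCM
  set W := (pPrimeCore 2 M).map M.subtype
  have hWq : IsPGroup q W := h.isPGroup_core (klein_sq d) (klein_noncyclic d) hPM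
  have hwW : (w : G) ∈ W := inf_le_core d.ord_t M (hPM d.t_mem) ⟨w.2, hwN⟩
  obtain ⟨y, hyP, hyt⟩ := exists_mover d d.a_mem d.ord_a
  have hyM : y ∈ M := normalizer_le_normalizer_D d hyP
  have hMW : M ≤ Subgroup.normalizer (W : Set G) := le_normalizer_map_pPrimeCore 2 M
  have hwa : ¬ Commute d.a (w : G) := fun hc =>
    hwD ⟨w.2, Subgroup.mem_centralizer_singleton_iff.2 hc.eq.symm⟩
  have hwt : Commute d.t (w : G) := (d.t_mem_core_conj w.2).symm
  have hfaith : ∀ s ∈ (P : Subgroup G), (∀ v ∈ W, Commute s v) → s = 1 := by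
    intro s hs hsW
    rcases d.P_elems hs with rfl | rfl | rfl | rfl
    · rfl
    · refine absurd ?_ hwa
      have hv : y⁻¹ * w * y ∈ W := (Subgroup.mem_normalizer_iff''.1 (hMW hyM) _).1 hwW
      have := (hsW _ hv).map (MulAut.conj y).toMonoidHom
      simpa [hyt, mul_assoc] using this
    · exact absurd (hsW _ hwW) hwa
    · refine absurd ?_ hwa
      have := (hsW _ hwW).mul_left hwt
      rwa [mul_assoc, CfsgLib.Involutions.mul_self_eq_one d.ord_t, mul_one] at this
  have := h.commute_of_faithful (klein_sq d) hWq (hPM.trans hMW) (hMW hyM) hyP hfaith d.t d.t_mem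
  rw [this.eq, mul_inv_cancel_right] at hyt
  exact d.ne hyt

/-- In a simple group the four-group is its own centralizer. -/
theorem D_eq_bot [IsSimpleGroup G] (hG : ¬ IsMulCommutative G) (h : TwoQ G q) (d : KleinData P) :
    d.D = ⊥ := by
  by_contra hD
  have hcD := core_eq_D h d hD
  set M := Subgroup.normalizer (d.D : Set G)
  have hCM : d.cent ≤ M := by
    intro g hg
    refine CfsgLib.CoprimeAction.mem_normalizer_of_conj_mem fun x hx => ?_
    rw [← hcD] at hx ⊢
    exact d.core_conj hg hx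
  have hM : M ≠ ⊤ := by
    intro e
    haveI := Subgroup.normalizer_eq_top_iff.1 e
    rcases IsSimpleGroup.eq_bot_or_eq_top_of_normal d.D inferInstance with e' | e'
    · exact hD e'
    · have : d.t ∈ d.core := (show d.t ∈ d.D from e' ▸ Subgroup.mem_top _).1
      exact CfsgLib.Involutions.ne_one d.ord_t (d.eq_one_of_mem d.t_mem this)
  refine hD (eq_bot_iff.2 (le_of_le_of_eq inf_le_left (d.core_eq_bot_of_oneClassIn hG hCM hM ?_)))
  haveI : Fact (Nat.Prime 2) := ⟨Nat.prime_two⟩
  intro x hx z hz hx2 hz2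
  have key : ∀ x ∈ M, orderOf x = 2 → ∃ g ∈ M, g * x * g⁻¹ = d.t := by
    intro x hx hx2
    have hPM := d.P_le_cent.trans hCM
    obtain ⟨Q, hQ⟩ := (IsPGroup.of_card (p := 2) (n := 1) (by
      rw [Nat.card_zpowers, Subgroup.orderOf_mk, hx2, pow_one]) :
      IsPGroup 2 (Subgroup.zpowers (⟨x, hx⟩ : M))).exists_le_sylow
    obtain ⟨m, hm⟩ := MulAction.exists_smul_eq M Q (P.subtype hPM)
    have hxP : (m : G) * x * (m : G)⁻¹ ∈ (P : Subgroup G) := by
      have h1 : MulAut.conj m (⟨x, hx⟩ : M) ∈ (MulAut.conj m • (Q : Subgroup M) : Subgroup M) :=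
        Subgroup.smul_mem_pointwise_smul _ (MulAut.conj m) _ (hQ (Subgroup.mem_zpowers _))
      rw [← Sylow.coe_subgroup_smul, hm] at h1
      exact h1
    obtain ⟨n, hn, hnt⟩ := exists_mover d hxP (by
      rw [show orderOf ((m : G) * x * (m : G)⁻¹) = orderOf x from
        (MulEquiv.orderOf_eq (MulAut.conj (m : G)) x), hx2])
    have hnM : n ∈ M := normalizer_le_normalizer_D d hn
    exact ⟨n⁻¹ * m, M.mul_mem (M.inv_mem hnM) m.2, by
      calc n⁻¹ * m * x * (n⁻¹ * m : G)⁻¹ = n⁻¹ * ((m : G) * x * (m : G)⁻¹) * n := by group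
        _ = d.t := by rw [← hnt]; group⟩
  obtain ⟨g, hg, hgx⟩ := key x hx hx2
  obtain ⟨g', hg', hgz⟩ := key z hz hz2
  exact ⟨g'⁻¹ * g, M.mul_mem (M.inv_mem hg') hg, by
    calc g'⁻¹ * g * x * (g'⁻¹ * g)⁻¹ = g'⁻¹ * (g * x * g⁻¹) * g' := by group
      _ = z := by rw [hgx, ← hgz]; group⟩

theorem eq_bot_of_centralizes (h : TwoQ G q) (d : KleinData P) (hD : d.D = ⊥) {Y : Subgroup G}
    (hYq : IsPGroup q Y) (hc : ∀ p ∈ (P : Subgroup G), ∀ x ∈ Y, Commute p x) : Y = ⊥ := by
  refine (Subgroup.eq_bot_iff_forall Y).2 fun x hx => ?_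
  have : x ∈ d.D := mem_D_of_commute d
    (h.odd_q.of_dvd_nat (orderOf_dvd_of_pow_eq_one (h.pow_q_of_isPGroup hYq hx)))
    fun p hp => (hc p hp x hx).symm
  rwa [hD, Subgroup.mem_bot] at this

/-- An element normalising `P` and a nontrivial `q`-group centralises `P`. -/
theorem commute_of_normalizes (h : TwoQ G q) (d : KleinData P) (hD : d.D = ⊥) {Y : Subgroup G}
    (hYq : IsPGroup q Y) (hY1 : Y ≠ ⊥) (hPY : (P : Subgroup G) ≤ Subgroup.normalizer (Y : Set G)) {n : G}
    (hnY : n ∈ Subgroup.normalizer (Y : Set G))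
    (hnP : n ∈ Subgroup.normalizer ((P : Subgroup G) : Set G)) :
    n ∈ Subgroup.centralizer ((P : Subgroup G) : Set G) := by
  haveI : Fact (Nat.Prime 2) := ⟨Nat.prime_two⟩
  -- the square of `n` centralises `P`
  have hsq : n ^ 2 ∈ Subgroup.centralizer ((P : Subgroup G) : Set G) := by
    set K0 := (P : Subgroup G) ⊓ Subgroup.centralizer (Y : Set G) with hK0
    have hK0n : ∀ x ∈ K0, n * x * n⁻¹ ∈ K0 := by
      intro x hx
      refine ⟨(Subgroup.mem_normalizer_iff.1 hnP x).1 hx.1, Subgroup.mem_centralizer_iff.2 fun v hv => ?_⟩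
      have hv' := (Subgroup.mem_normalizer_iff''.1 hnY v).1 hv
      calc v * (n * x * n⁻¹) = n * ((n⁻¹ * v * n) * x) * n⁻¹ := by group
        _ = n * (x * (n⁻¹ * v * n)) * n⁻¹ := by rw [Subgroup.mem_centralizer_iff.1 hx.2 _ hv']
        _ = n * x * n⁻¹ * v := by group
    by_cases hbot : K0 = ⊥
    · refine Subgroup.mem_centralizer_iff.2 fun x hx => ?_
      have hc := h.commute_of_faithful (klein_sq d) hYq hPY hnY hnP (fun s hs hsY => by
        have : s ∈ K0 := ⟨hs, Subgroup.mem_centralizer_iff.2 fun v hv => (hsY v hv).eq.symm⟩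
        rwa [hbot, Subgroup.mem_bot] at this) x hx
      exact (hc.pow_left 2).eq.symm
    have hlt : K0 ≠ (P : Subgroup G) := fun e => hY1 (eq_bot_of_centralizes h d hD hYq fun p hp x hx =>
      (Subgroup.mem_centralizer_iff.1 ((e ▸ hp : p ∈ K0).2) x hx).symm)
    obtain ⟨i, hi, hK⟩ := (Nat.dvd_prime_pow Nat.prime_two).1
      (show Nat.card K0 ∣ 2 ^ 2 from (Subgroup.card_dvd_of_le inf_le_left).trans (by rw [d.card_P]; norm_num))
    have hi1 : i = 1 := by
      interval_cases i
      · exact absurd (Subgroup.card_eq_one.1 hK) hbot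
      · rfl
      · exact absurd (Subgroup.eq_of_le_of_card_ge inf_le_left (by rw [d.card_P, hK]; norm_num)) hlt
    subst hi1
    have hidx : (K0.subgroupOf (P : Subgroup G)).index = 2 := by
      have := Subgroup.card_mul_index (K0.subgroupOf (P : Subgroup G))
      rw [Nat.card_congr (Subgroup.subgroupOfEquivOfLe (inf_le_left : K0 ≤ _)).toEquiv, hK, d.card_P] at this
      omega
    refine Subgroup.mem_centralizer_iff.2 fun x hx => ?_
    have hx' : n * x * n⁻¹ ∈ (P : Subgroup G) := (Subgroup.mem_normalizer_iff.1 hnP x).1 hx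
    have hc : x⁻¹ * (n * x * n⁻¹) ∈ K0 := by
      have hm : (⟨x⁻¹ * (n * x * n⁻¹), Subgroup.mul_mem _ (inv_mem hx) hx'⟩ : (P : Subgroup G)) ∈
          K0.subgroupOf (P : Subgroup G) := by
        have e := Subgroup.mul_mem_iff_of_index_two hidx (a := (⟨x⁻¹, inv_mem hx⟩ : (P : Subgroup G)))
          (b := ⟨n * x * n⁻¹, hx'⟩)
        refine e.2 ⟨fun hh => ?_, fun hh => ?_⟩
        · have h1 : x ∈ K0 := by simpa using K0.inv_mem hh
          exact hK0n x h1
        · have hh' : n * x * n⁻¹ ∈ K0 := hh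
          obtain ⟨⟨z, hz⟩, hzz⟩ := (Finite.injective_iff_surjective (f := fun z : K0 =>
            (⟨n * z * n⁻¹, hK0n z z.2⟩ : K0))).1 (fun a b hab => Subtype.ext (by
              simpa using congrArg Subtype.val hab)) ⟨_, hh'⟩
          have : z = x := by simpa using congrArg Subtype.val hzz
          exact K0.inv_mem (this ▸ hz)
      exact hm
    obtain ⟨z, hz, hz1⟩ : ∃ z ∈ K0, ∀ v ∈ K0, v = 1 ∨ v = z := by
      obtain ⟨⟨z, hz⟩, hz'⟩ := Subgroup.ne_bot_iff_exists_ne_one.1 hbot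
      refine ⟨z, hz, fun v hv => ?_⟩
      by_contra hcc
      push Not at hcc
      obtain ⟨u, u', -, hu⟩ := Nat.card_eq_two_iff.1 (by rw [hK]; norm_num : Nat.card K0 = 2)
      have h3 : ∀ w : K0, w = u ∨ w = u' := fun w => by
        have : w ∈ ({u, u'} : Set K0) := hu.symm ▸ Set.mem_univ w
        simpa using this
      rcases h3 1 with e1 | e1 <;> rcases h3 ⟨z, hz⟩ with e2 | e2 <;> rcases h3 ⟨v, hv⟩ with e3 | e3
      all_goals first
        | exact hz' (e2.trans e1.symm)
        | exact hcc.1 (congrArg Subtype.val (e3.trans e1.symm))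
        | exact hcc.2 (congrArg Subtype.val (e3.trans e2.symm))
    have hfix : n * (x⁻¹ * (n * x * n⁻¹)) * n⁻¹ = x⁻¹ * (n * x * n⁻¹) := by
      rcases hz1 _ hc with e | e <;> rw [e]
      · simp
      · rcases hz1 _ (hK0n z hz) with e' | e'
        · exfalso
          have : z = 1 := by simpa using e'
          subst this
          refine hbot ((Subgroup.eq_bot_iff_forall K0).2 fun v hv => ?_)
          simpa using hz1 v hv
        · exact e'
    set c := x⁻¹ * (n * x * n⁻¹) with hcdef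
    have hcc : c * c = 1 := klein_sq d c hc.1
    have hnx : n * x * n⁻¹ = x * c := by rw [hcdef]; group
    calc x * n ^ 2 = x * (c * c) * n ^ 2 := by rw [hcc, mul_one]
      _ = (n * x * n⁻¹) * c * n ^ 2 := by rw [hnx]; group
      _ = (n * x * n⁻¹) * (n * c * n⁻¹) * n ^ 2 := by rw [hfix]
      _ = n * (x * c) * n⁻¹ * n ^ 2 := by group
      _ = n * (n * x * n⁻¹) * n⁻¹ * n ^ 2 := by rw [hnx]
      _ = n ^ 2 * x := by rw [pow_two]; group
  -- an odd power as well
  set Q := (P : Subgroup G) with hQ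
  haveI : IsMulCommutative Q := isMulCommutative_of_mul_self (klein_sq d)
  set C := (Subgroup.centralizer (Q : Set G)).subgroupOf (Subgroup.normalizer (Q : Set G))
  haveI : C.Normal := by
    show ((Subgroup.centralizer (Q : Set G)).subgroupOf (Subgroup.normalizer (Q : Set G))).Normal
    rw [← Subgroup.normalizerMonoidHom_ker]
    infer_instance
  have hQC : Q ≤ Subgroup.centralizer (Q : Set G) := fun a ha => Subgroup.mem_centralizer_iff.2 fun b hb =>
    d.P_comm hb ha
  have hodd : Odd C.index := by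
    refine Nat.not_even_iff_odd.1 fun he => P.not_dvd_index ((even_iff_two_dvd.1 he).trans ?_)
    exact ((Subgroup.index_dvd_of_le fun x (hx : x ∈ Q.subgroupOf _) => hQC hx)).trans
      (Subgroup.relIndex_dvd_index_of_le Subgroup.le_normalizer)
  have hpow : n ^ C.index ∈ Subgroup.centralizer (Q : Set G) := by
    have := C.pow_index_mem (⟨n, hnP⟩ : Subgroup.normalizer (Q : Set G))
    exact this
  obtain ⟨k, hk⟩ := hodd
  rw [hk, pow_succ, pow_mul] at hpow
  exact (Subgroup.mul_mem_cancel_left _ (pow_mem hsq k)).1 hpow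

/-- The normalizer of a nontrivial `P`-invariant `q`-group has a normal `2`-complement, a `q`-group. -/
theorem exists_complement (h : TwoQ G q) (d : KleinData P) (hD : d.D = ⊥) {Y : Subgroup G}
    (hYq : IsPGroup q Y) (hY1 : Y ≠ ⊥) (hPY : (P : Subgroup G) ≤ Subgroup.normalizer (Y : Set G)) :
    ∃ K : Subgroup G, IsPGroup q K ∧ (P : Subgroup G) ≤ Subgroup.normalizer (K : Set G) ∧
      Subgroup.normalizer (Y : Set G) ≤ K ⊔ (P : Subgroup G) ∧
      ∀ R : Subgroup G, R ≤ Subgroup.normalizer (Y : Set G) → IsPGroup q R → R ≤ K := by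
  haveI : Fact (Nat.Prime 2) := ⟨Nat.prime_two⟩
  set H := Subgroup.normalizer (Y : Set G)
  set PH := P.subtype hPY
  have hN : Subgroup.normalizer ((PH : Subgroup H) : Set H) ≤
      Subgroup.centralizer ((PH : Subgroup H) : Set H) := by
    intro n hn
    have hnP : (n : G) ∈ Subgroup.normalizer ((P : Subgroup G) : Set G) :=
      CfsgLib.CoprimeAction.mem_normalizer_of_conj_mem fun x hx =>
        (Subgroup.mem_normalizer_iff.1 hn ⟨x, hPY hx⟩).1 hx
    have := commute_of_normalizes h d hD hYq hY1 hPY n.2 hnP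
    exact Subgroup.mem_centralizer_iff.2 fun x hx =>
      Subtype.ext (Subgroup.mem_centralizer_iff.1 this _ hx)
  have hc := MonoidHom.ker_transferSylow_isComplement' PH hN
  set f := MonoidHom.transferSylow PH hN
  have hHK : H ≤ Subgroup.normalizer ((f.ker.map H.subtype : Subgroup G) : Set G) := by
    intro g hg
    refine Subgroup.le_normalizer_map H.subtype ⟨⟨g, hg⟩, ?_, rfl⟩
    rw [SetLike.mem_coe, Subgroup.normalizer_eq_top (H := f.ker)]
    exact Subgroup.mem_top _
  refine ⟨f.ker.map H.subtype, h.isPGroup_of_odd (klein_sq d) (klein_noncyclic d) (hPY.trans hHK) ?_,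
    hPY.trans hHK, ?_, fun R hR hRq x hx => ⟨⟨x, hR hx⟩, ?_, rfl⟩⟩
  · rw [Subgroup.card_map_of_injective H.subtype_injective, ← hc.index_eq_card]
    exact Nat.not_even_iff_odd.1 fun he => PH.not_dvd_index (even_iff_two_dvd.1 he)
  · intro g hg
    have h1 : (⟨g, hg⟩ : H) ∈ f.ker ⊔ (PH : Subgroup H) := hc.sup_eq_top ▸ Subgroup.mem_top _
    have h2 := Subgroup.mem_map_of_mem H.subtype h1
    rw [Subgroup.map_sup] at h2
    have h3 : (PH : Subgroup H).map H.subtype ≤ (P : Subgroup G) := fun y ⟨z, hz, hzy⟩ => hzy ▸ hz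
    exact (sup_le (le_sup_left) (h3.trans le_sup_right) :
      f.ker.map H.subtype ⊔ (PH : Subgroup H).map H.subtype ≤ f.ker.map H.subtype ⊔ (P : Subgroup G)) h2
  · have h1 : orderOf (f ⟨x, hR hx⟩) ∣ q := by
      refine orderOf_dvd_of_pow_eq_one ?_
      rw [← map_pow, show (⟨x, hR hx⟩ : H) ^ q = 1 from Subtype.ext (h.pow_q_of_isPGroup hRq hx), map_one]
    have h2 : orderOf (f ⟨x, hR hx⟩) ∣ 2 := by
      refine orderOf_dvd_of_pow_eq_one (Subtype.ext (Subtype.ext ?_))
      show ((f ⟨x, hR hx⟩ : H) : G) ^ 2 = 1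
      rw [pow_two]
      exact klein_sq d _ (f ⟨x, hR hx⟩).2
    rw [SetLike.mem_coe, MonoidHom.mem_ker, ← orderOf_eq_one_iff]
    exact Nat.eq_one_of_dvd_coprimes h.coprime_two h2 h1

/-- A `P`-invariant `q`-subgroup. -/
def InvQ (P : Sylow 2 G) (q : ℕ) (R : Subgroup G) : Prop :=
  IsPGroup q R ∧ (P : Subgroup G) ≤ Subgroup.normalizer (R : Set G)

/-- Two maximal invariant `q`-subgroups meeting nontrivially coincide. -/
theorem maximal_unique (h : TwoQ G q) (d : KleinData P) (hD : d.D = ⊥) {R₁ R₂ : Subgroup G}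
    (h1 : Maximal (InvQ P q) R₁) (h2 : Maximal (InvQ P q) R₂) (hne : R₁ ⊓ R₂ ≠ ⊥) : R₁ = R₂ := by
  by_contra h12
  haveI : Fact q.Prime := ⟨h.hq⟩
  obtain ⟨I, hI⟩ : ∃ I, Maximal (fun I : Subgroup G => ∃ A B : Subgroup G, Maximal (InvQ P q) A ∧
      Maximal (InvQ P q) B ∧ A ≠ B ∧ I = A ⊓ B ∧ I ≠ ⊥) I :=
    Set.Finite.exists_maximal (Set.toFinite _) ⟨R₁ ⊓ R₂, R₁, R₂, h1, h2, h12, rfl, hne⟩
  obtain ⟨A, B, hA, hB, hAB, rfl, hI0⟩ := hI.prop
  have hPI : (P : Subgroup G) ≤ Subgroup.normalizer ((A ⊓ B : Subgroup G) : Set G) := fun p hp =>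
    CfsgLib.CoprimeAction.mem_normalizer_of_conj_mem fun x hx =>
      ⟨CfsgLib.CoprimeAction.conj_mem (hA.prop.2 hp) hx.1, CfsgLib.CoprimeAction.conj_mem (hB.prop.2 hp) hx.2⟩
  obtain ⟨K, hKq, hPK, -, hKmax⟩ := exists_complement h d hD (hA.prop.1.to_le inf_le_left) hI0 hPI
  obtain ⟨R, hKR, hR⟩ : ∃ R, K ≤ R ∧ Maximal (InvQ P q) R := by
    obtain ⟨R, hR⟩ := Set.Finite.exists_maximal (s := {R : Subgroup G | K ≤ R ∧ InvQ P q R})
      (Set.toFinite _) ⟨K, le_rfl, hKq, hPK⟩
    exact ⟨R, hR.prop.1, hR.prop.2, fun S hS hle => hR.2 ⟨hR.prop.1.trans hle, hS⟩ hle⟩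
  have key : ∀ A' : Subgroup G, Maximal (InvQ P q) A' → A ⊓ B < A' → R = A' := by
    intro A' hA' hlt
    by_contra hne'
    haveI := hA'.prop.1.isNilpotent
    obtain ⟨w, hw, hw'⟩ := SetLike.exists_of_lt
      (Group.normalizerCondition_of_isNilpotent ((A ⊓ B).subgroupOf A')
        (lt_top_iff_ne_top.2 fun e => hlt.not_ge (Subgroup.subgroupOf_eq_top.1 e)))
    have hwN : (w : G) ∈ Subgroup.normalizer ((A ⊓ B : Subgroup G) : Set G) :=
      CfsgLib.CoprimeAction.mem_normalizer_of_conj_mem fun x hx =>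
        (Subgroup.mem_normalizer_iff.1 hw ⟨x, hlt.le hx⟩).1 hx
    have hle : A' ⊓ Subgroup.normalizer ((A ⊓ B : Subgroup G) : Set G) ≤ R :=
      (hKmax _ inf_le_right (hA'.prop.1.to_le inf_le_left)).trans hKR
    have hIle : A ⊓ B ≤ R ⊓ A' := le_inf ((le_inf hlt.le Subgroup.le_normalizer).trans hle) hlt.le
    exact hw' (hI.2 ⟨R, A', hR, hA', hne', rfl, fun e => hI0 (le_bot_iff.1 (e ▸ hIle))⟩ hIle
      ⟨hle ⟨w.2, hwN⟩, w.2⟩)
  have eA := key A hA (lt_of_le_of_ne inf_le_left fun e => hAB (hA.eq_of_le hB.prop (e ▸ inf_le_right)))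
  have eB := key B hB (lt_of_le_of_ne inf_le_right fun e => hAB (hB.eq_of_le hA.prop (e ▸ inf_le_left)).symm)
  exact hAB (eA.symm.trans eB)

/-- A simple group with Klein four Sylow 2-subgroups is a `PSL₂`. -/
theorem exists_psl_klein [IsSimpleGroup G] (hG : ¬ IsMulCommutative G) (h : TwoQ G q) (d : KleinData P) :
    ∃ (F : Type) (_ : Field F) (_ : Fintype F), Odd (Fintype.card F) ∧
      Nonempty (G ≃* Matrix.ProjectiveSpecialLinearGroup (Fin 2) F) := by
  classical
  by_cases hO : d.core = ⊥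
  · exact d.exists_psl_of_core_eq_bot hO
  haveI : Fact (Nat.Prime 2) := ⟨Nat.prime_two⟩
  have hD := D_eq_bot hG h d
  have hOinv : InvQ P q d.core := ⟨core_isPGroup h d,
    d.P_le_cent.trans (CfsgLib.Balance.centralizer_le_normalizer_centralizerPPrimeCore 2 d.t)⟩
  obtain ⟨R, hOR, hR⟩ : ∃ R, d.core ≤ R ∧ Maximal (InvQ P q) R := by
    obtain ⟨R, hR⟩ := Set.Finite.exists_maximal (s := {R : Subgroup G | d.core ≤ R ∧ InvQ P q R})
      (Set.toFinite _) ⟨d.core, le_rfl, hOinv⟩
    exact ⟨R, hR.prop.1, hR.prop.2, fun S hS hle => hR.2 ⟨hR.prop.1.trans hle, hS⟩ hle⟩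
  have hfix : ∀ s ∈ (P : Subgroup G), s ≠ 1 → s ≠ d.t → ∀ x ∈ d.core, Commute s x → x = 1 := by
    intro s hs hs1 hst x hx hc
    have ht : Commute d.t x := (d.t_mem_core_conj hx).symm
    have ha : Commute d.a x := by
      rcases d.P_elems hs with rfl | rfl | rfl | rfl
      · exact absurd rfl hs1
      · exact absurd rfl hst
      · exact hc
      · have := hc.mul_left ht
        rwa [mul_assoc, CfsgLib.Involutions.mul_self_eq_one d.ord_t, mul_one] at this
    have : x ∈ d.D := ⟨hx, Subgroup.mem_centralizer_singleton_iff.2 ha.eq.symm⟩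
    rwa [hD, Subgroup.mem_bot] at this
  haveI : IsMulCommutative (P : Subgroup G) := isMulCommutative_of_mul_self (klein_sq d)
  have hRO : R ≤ d.core := by
    refine CfsgLib.CoprimeAction.le_of_centralizers (klein_noncyclic d) hR.prop.2
      (coprime_two_group (klein_sq d) ?_) fun s hs hs1 => ?_
    · obtain ⟨k, hk⟩ := (haveI : Fact q.Prime := ⟨h.hq⟩; hR.prop.1.exists_card_eq)
      rw [hk]
      exact h.odd_q.pow
    by_cases hst : s = d.t
    · rintro x ⟨hx, hxt⟩
      rw [hst] at hxt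
      exact d.mem_core hxt (h.odd_q.of_dvd_nat (orderOf_dvd_of_pow_eq_one (h.pow_q_of_isPGroup hR.prop.1 hx)))
    rintro x ⟨hx, hxs⟩
    by_contra hxO
    have hx1 : x ≠ 1 := fun e => hxO (e ▸ one_mem _)
    have hs2 : orderOf s = 2 := orderOf_eq_two (klein_sq d s hs) hs1
    obtain ⟨y, hyP, hyt⟩ := exists_mover d hs hs2
    have hR' : Maximal (InvQ P q) (MulAut.conj y • R : Subgroup G) := by
      have hinv : ∀ (z : G), z ∈ Subgroup.normalizer ((P : Subgroup G) : Set G) → ∀ S : Subgroup G,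
          InvQ P q S → InvQ P q (MulAut.conj z • S : Subgroup G) := by
        intro z hz S hS
        refine ⟨hS.1.of_equiv (Subgroup.equivSMul (MulAut.conj z) S), fun p hp => ?_⟩
        refine CfsgLib.CoprimeAction.mem_normalizer_of_conj_mem fun u hu => ?_
        rw [CfsgLib.CoprimeAction.mem_conj_iff] at hu ⊢
        have hp' := (Subgroup.mem_normalizer_iff''.1 hz p).1 hp
        have := (Subgroup.mem_normalizer_iff.1 (hS.2 hp') _).1 hu
        convert this using 1
        group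
      refine ⟨hinv y hyP R hR.prop, fun S hS hle => ?_⟩
      have h1 := hR.2 (hinv y⁻¹ (inv_mem hyP) S hS) (by
        rw [map_inv]; exact Subgroup.subset_pointwise_smul_iff.2 hle)
      rw [map_inv] at h1
      simpa using Subgroup.pointwise_smul_subset_iff.1 h1
    have hxR' : x ∈ (MulAut.conj y • R : Subgroup G) := by
      rw [CfsgLib.CoprimeAction.mem_conj_iff]
      refine hOR (d.mem_core (Subgroup.mem_centralizer_singleton_iff.2 ?_) ?_)
      · have hc : x * s = s * x := Subgroup.mem_centralizer_singleton_iff.1 hxs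
        rw [← hyt] at hc
        calc y⁻¹ * x * y * d.t = y⁻¹ * (x * (y * d.t * y⁻¹)) * y := by group
          _ = y⁻¹ * ((y * d.t * y⁻¹) * x) * y := by rw [hc]
          _ = d.t * (y⁻¹ * x * y) := by group
      · have hxq := orderOf_dvd_of_pow_eq_one (h.pow_q_of_isPGroup hR.prop.1 hx)
        have he : orderOf (y⁻¹ * x * y) = orderOf x := by
          have := MulEquiv.orderOf_eq (MulAut.conj y⁻¹) x
          simpa using this
        rw [he]
        exact h.odd_q.of_dvd_nat hxq
    have heq := maximal_unique h d hD hR' hR fun e => hx1 (by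
      have : x ∈ ((MulAut.conj y • R : Subgroup G) ⊓ R) := ⟨hxR', hx⟩
      rwa [e, Subgroup.mem_bot] at this)
    have hyR := CfsgLib.CoprimeAction.conj_smul_eq_self.1 heq
    have hfaith : ∀ u ∈ (P : Subgroup G), (∀ v ∈ R, Commute u v) → u = 1 := by
      intro u hu huR
      by_contra hu1
      refine hO ((Subgroup.eq_bot_iff_forall _).2 fun v hv => ?_)
      by_cases hut : u = d.t
      · refine hfix s hs hs1 hst v hv ?_
        have hv' := (Subgroup.mem_normalizer_iff''.1 hyR v).1 (hOR hv)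
        have := (hut ▸ huR _ hv' : Commute d.t (y⁻¹ * v * y))
        rw [← hyt]
        calc y * d.t * y⁻¹ * v = y * (d.t * (y⁻¹ * v * y)) * y⁻¹ := by group
          _ = y * ((y⁻¹ * v * y) * d.t) * y⁻¹ := by rw [this.eq]
          _ = v * (y * d.t * y⁻¹) := by group
      · exact hfix u hu hu1 hut v hv (huR v (hOR hv))
    have := h.commute_of_faithful (klein_sq d) hR.prop.1 hR.prop.2 hyR hyP hfaith d.t d.t_mem
    rw [this.eq, mul_inv_cancel_right] at hyt
    exact hst hyt.symm
  -- the elements outside `⟨t⟩` invert the core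
  have hinv : ∀ s ∈ (P : Subgroup G), s ≠ 1 → s ≠ d.t → ∀ y ∈ d.core, s * y * s⁻¹ = y⁻¹ := by
    intro s hs hs1 hst y hy
    have hsC := d.P_le_cent hs
    let f : d.core → d.core := fun x => ⟨(x : G)⁻¹ * (s * x * s⁻¹),
      d.core.mul_mem (inv_mem x.2) (d.core_conj hsC x.2)⟩
    have hinj : Function.Injective f := by
      rintro ⟨u, hu⟩ ⟨v, hv⟩ huv
      have e : u⁻¹ * (s * u * s⁻¹) = v⁻¹ * (s * v * s⁻¹) := congrArg Subtype.val huv
      have : Commute s (v * u⁻¹) := by
        calc s * (v * u⁻¹) = v * (v⁻¹ * (s * v * s⁻¹)) * (u⁻¹ * (s * u * s⁻¹))⁻¹ * u⁻¹ * s := by group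
          _ = v * u⁻¹ * s := by rw [← e]; group
      exact Subtype.ext (mul_inv_eq_one.1 (hfix s hs hs1 hst _ (d.core.mul_mem hv (inv_mem hu)) this)).symm
    obtain ⟨⟨x, hx⟩, hxy⟩ := (Finite.injective_iff_surjective.1 hinj) ⟨y, hy⟩
    have e : x⁻¹ * (s * x * s⁻¹) = y := congrArg Subtype.val hxy
    have hss := klein_sq d s hs
    rw [← e]
    calc s * (x⁻¹ * (s * x * s⁻¹)) * s⁻¹ = (s * x * s⁻¹)⁻¹ * ((s * s) * x * (s * s)⁻¹) := by group
      _ = (s * x * s⁻¹)⁻¹ * x := by rw [hss]; group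
      _ = (x⁻¹ * (s * x * s⁻¹))⁻¹ := by group
  have hmem : ∀ s ∈ (P : Subgroup G), s ∈ Subgroup.centralizer (d.core : Set G) → s = 1 ∨ s = d.t := by
    intro s hs hc
    by_contra hn
    push Not at hn
    exact hO ((Subgroup.eq_bot_iff_forall _).2 fun v hv => hfix s hs hn.1 hn.2 v hv
      (Subgroup.mem_centralizer_iff.1 hc v hv).symm)
  have hCS : (P : Subgroup G) ⊓ Subgroup.centralizer (d.core : Set G) = Subgroup.zpowers d.t := by
    refine le_antisymm (fun s hs => ?_) (Subgroup.zpowers_le.2 ⟨d.t_mem, ?_⟩)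
    · rcases hmem s hs.1 hs.2 with rfl | rfl
      · exact one_mem _
      · exact Subgroup.mem_zpowers _
    · exact Subgroup.mem_centralizer_iff.2 fun v hv => d.t_mem_core_conj hv
  haveI := d.klein
  refine Cfsg.Agent.S0508.result P 2 le_rfl IsKleinFour.nonempty_mulEquiv d.t d.ord_t d.t_mem
    (fun s hs => d.P_comm hs d.t_mem) d.core rfl (fun _ => ?_) (fun s hs hs' y hy => ?_) (fun Y hY hY1 => ?_)
  · rw [hCS]
    refine ⟨inferInstance, ?_⟩
    have h1 := Subgroup.card_mul_index ((Subgroup.zpowers d.t).subgroupOf (P : Subgroup G))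
    rw [Nat.card_congr (Subgroup.subgroupOfEquivOfLe (Subgroup.zpowers_le.2 d.t_mem)).toEquiv,
      Nat.card_zpowers, d.ord_t, d.card_P] at h1
    show ((Subgroup.zpowers d.t).subgroupOf (P : Subgroup G)).index = 2
    omega
  · refine hinv s hs (fun e => hs' (e ▸ one_mem _)) (fun e => hs' ?_) y hy
    rw [e]
    exact Subgroup.mem_centralizer_iff.2 fun v hv => d.t_mem_core_conj hv
  · have hPY : (P : Subgroup G) ≤ Subgroup.normalizer (Y : Set G) := fun p hp =>
      CfsgLib.CoprimeAction.mem_normalizer_of_conj_mem fun v hv => by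
        by_cases hp1 : p = 1
        · simpa [hp1] using hv
        by_cases hpt : p = d.t
        · rw [hpt, show d.t * v = v * d.t from (d.t_mem_core_conj (hY hv)).symm, mul_inv_cancel_right]
          exact hv
        rw [hinv p hp hp1 hpt v (hY hv)]
        exact Y.inv_mem hv
    obtain ⟨K, hKq, hPK, hNK, hKmax⟩ := exists_complement h d hD ((core_isPGroup h d).to_le hY) hY1 hPY
    obtain ⟨R', hKR', hR'⟩ : ∃ R', K ≤ R' ∧ Maximal (InvQ P q) R' := by
      obtain ⟨R', hR'⟩ := Set.Finite.exists_maximal (s := {S : Subgroup G | K ≤ S ∧ InvQ P q S})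
        (Set.toFinite _) ⟨K, le_rfl, hKq, hPK⟩
      exact ⟨R', hR'.prop.1, hR'.prop.2, fun S hS hle => hR'.2 ⟨hR'.prop.1.trans hle, hS⟩ hle⟩
    have heq := maximal_unique h d hD hR' hR fun e => hY1 (le_bot_iff.1 (e ▸ le_inf
      ((hKmax Y Subgroup.le_normalizer ((core_isPGroup h d).to_le hY)).trans hKR') (hY.trans hOR)))
    exact hNK.trans (sup_le ((hKR'.trans (heq.le.trans hRO)).trans d.core_le) d.P_le_cent)

end CfsgLib.NoThreeOrders
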