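import Cfsg.Agent.Lib.NoThreeOrders.Outer
import Cfsg.Agent.Lib.NoThreeOrders.Klein
import Cfsg.Agent.Lib.NoThreeOrders.Rank3Final
import Cfsg.Agent.Lib.PSLKleinAut.Basic
import Cfsg.Agent.Lib.SL2.Card
import Cfsg.Agent.Lib.SL2.Dickson.Maximal
import Cfsg.Agent.S0494

/-!
A nonsolvable group with the condition and an element of order `2q` is `PSL₂` of order `≡ 3, 5 (mod 8)`.
-/

set_option autoImplicit false
set_option linter.style.haveILetI false
set_option linter.unusedSectionVars false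

open Cfsg CfsgLib.GW.Klein
open scoped Pointwise MatrixGroups

namespace CfsgLib.NoThreeOrders

theorem isKleinFour_of_mul_self {G : Type*} [Group G] {P : Subgroup G} (h4 : Nat.card P = 4)
    (hsq : ∀ a ∈ P, a * a = 1) : IsKleinFour P := by
  refine ⟨h4, ?_⟩
  have : Finite P := Nat.finite_of_card_ne_zero (by omega)
  have hd : Monoid.exponent P ∣ 2 := Monoid.exponent_dvd_of_forall_pow_eq_one fun g => by
    rw [pow_two]; exact Subtype.ext (hsq g g.2)
  rcases (Nat.dvd_prime Nat.prime_two).1 hd with e | e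
  · have := Monoid.exp_eq_one_iff.1 e
    rw [Nat.card_of_subsingleton (1 : P)] at h4
    omega
  · exact e

variable {G : Type*} [Group G] [Finite G] {q : ℕ}

/-- A nonsolvable group with the condition and an element of order `2q` is a `PSL₂`. -/
theorem TwoQ.exists_psl (h : TwoQ G q) (hns : ¬ Group.IsSolvable G) (hex : ∃ g : G, orderOf g = 2 * q) :
    ∃ (F : Type) (_ : Field F) (_ : Fintype F), 5 < Fintype.card F ∧
      (Fintype.card F % 8 = 3 ∨ Fintype.card F % 8 = 5) ∧
      Nonempty (G ≃* Matrix.ProjectiveSpecialLinearGroup (Fin 2) F) := by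
  classical
  haveI : Fact (Nat.Prime 2) := ⟨Nat.prime_two⟩
  haveI : Fact q.Prime := ⟨h.hq⟩
  obtain ⟨T, hTn, hTs, hna, hcent⟩ := h.exists_simple_normal hns
  haveI := hTn
  haveI := hTs
  have hTns : ¬ Group.IsSolvable T := fun hs => hna ⟨⟨IsSimpleGroup.comm_iff_isSolvable.2 hs⟩⟩
  have hinvol : ∀ x : G, orderOf x = 2 → x ∈ T := fun x => h.mem_of_involution hTns hcent
  have hT := h.subgroup T
  have hsplit : ∀ g : G, orderOf g = 2 * q → orderOf (g ^ q) = 2 ∧ orderOf (g ^ 2) = q := fun g hg => by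
    rw [orderOf_pow' g h.hq.pos.ne', orderOf_pow' g two_ne_zero, hg, Nat.gcd_mul_left_left,
      Nat.gcd_mul_right_left, Nat.mul_div_cancel _ h.hq.pos, Nat.mul_div_cancel_left _ two_pos]
    exact ⟨rfl, rfl⟩
  -- `T` has an element of order `2q`
  obtain ⟨gT, hgT⟩ : ∃ g : T, orderOf g = 2 * q := by
    by_contra! hno
    obtain ⟨g, hg⟩ := hex
    obtain ⟨h1, h2⟩ := hsplit g hg
    exact h.false_of_outer hna hno h2 (a := ⟨g ^ q, hinvol _ h1⟩) (by rw [Subgroup.orderOf_mk, h1])
      (Commute.pow_pow_self g 2 q)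
  -- the Sylow subgroups
  obtain ⟨S⟩ : Nonempty (Sylow 2 G) := inferInstance
  have hST : (S : Subgroup G) ≤ T := fun a ha => by
    by_cases ha1 : a = 1
    · rw [ha1]; exact one_mem T
    · exact hinvol a (orderOf_eq_two (h.sylow_sq S a ha) ha1)
  set P : Sylow 2 T := S.subtype hST with hPdef
  have hmemP : ∀ v : T, v ∈ (P : Subgroup T) ↔ (v : G) ∈ (S : Subgroup G) := fun v => Iff.rfl
  have h4 := hT.four_le hTns P
  have hcard4 : Nat.card (P : Subgroup T) = 4 := by
    by_contra hne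
    obtain ⟨n, hn⟩ := P.isPGroup'.exists_card_eq
    have h8 : 8 ≤ Nat.card (P : Subgroup T) := by
      rcases Nat.lt_or_ge n 3 with hl | hl
      · interval_cases n <;> omega
      · exact hn ▸ le_trans (by norm_num) (Nat.pow_le_pow_right two_pos hl)
    exact (BigTwo.mk hTs hna hT h8).false_of_orderOf ⟨gT, hgT⟩
  have hkT := isKleinFour_of_mul_self hcard4 (hT.sylow_sq P)
  obtain ⟨t₀, ht₀⟩ := exists_prime_orderOf_dvd_card' (G := (P : Subgroup T)) 2 (by rw [hcard4]; norm_num)
  obtain ⟨d, -⟩ := exists_kleinData hna P hkT (t₀ : T) (by rw [Subgroup.orderOf_coe, ht₀]) t₀.2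
  have hDT := D_eq_bot hna hT d
  obtain ⟨F, hF, hFt, hodd, ⟨e⟩⟩ := exists_psl_klein hna hT d
  -- `T` is everything
  have htop : T = ⊤ := by
    by_contra hne
    have hkG : IsKleinFour (S : Subgroup G) := isKleinFour_of_mul_self (by
      rw [← hcard4]; exact (Nat.card_congr (Subgroup.subgroupOfEquivOfLe hST).toEquiv).symm) (h.sylow_sq S)
    let dG : KleinData S :=
      { t := (d.t : G), a := (d.a : G), t_mem := d.t_mem, a_mem := d.a_mem
        ord_t := (Subgroup.orderOf_coe d.t).trans d.ord_t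
        ord_a := (Subgroup.orderOf_coe d.a).trans d.ord_a
        ne := fun e => d.ne (Subtype.ext e)
        klein := hkG
        oneClass := fun z hz => by
          have := d.oneClass ⟨z, hinvol z hz⟩ (by rw [Subgroup.orderOf_mk, hz])
          exact T.subtype.map_isConj this }
    obtain ⟨n₀, hn₀, hn₀T⟩ : ∃ n ∈ Subgroup.normalizer ((S : Subgroup G) : Set G), n ∉ T := by
      by_contra! hall
      refine hne ((Subgroup.eq_top_iff' T).2 fun g => ?_)
      have h1 := Sylow.normalizer_sup_eq_top P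
      have hPS : (P : Subgroup T).map T.subtype = (S : Subgroup G) :=
        Subgroup.map_subgroupOf_eq_of_le hST
      rw [hPS] at h1
      have h2 : Subgroup.normalizer ((S : Subgroup G) : Set G) ≤ T := hall
      exact (h1.ge.trans (sup_le h2 le_rfl)) (Subgroup.mem_top g)
    -- move it to fix `t`
    have hs : orderOf (n₀ * (d.t : G) * n₀⁻¹) = 2 := by
      rw [CfsgLib.Involutions.orderOf_conj, Subgroup.orderOf_coe, d.ord_t]
    obtain ⟨y, hy, hyt⟩ := exists_mover d (s := ⟨_, hinvol _ hs⟩)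
      ((hmemP _).2 ((Subgroup.mem_normalizer_iff.1 hn₀ _).1 d.t_mem)) (by rw [Subgroup.orderOf_mk, hs])
    have hyS : (y : G) ∈ Subgroup.normalizer ((S : Subgroup G) : Set G) := by
      refine CfsgLib.CoprimeAction.mem_normalizer_of_conj_mem fun b hb => ?_
      exact (hmemP _).1 ((Subgroup.mem_normalizer_iff.1 hy ⟨b, hST hb⟩).1 hb)
    set n₁ := (y : G)⁻¹ * n₀ with hn₁
    have hn₁N : n₁ ∈ Subgroup.normalizer ((S : Subgroup G) : Set G) := mul_mem (inv_mem hyS) hn₀
    have hn₁T : n₁ ∉ T := fun hm => hn₀T (by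
      have := mul_mem y.2 hm
      rwa [hn₁, mul_inv_cancel_left] at this)
    have hn₁t : Commute n₁ (d.t : G) := by
      have e0 : (y : G) * d.t * (y : G)⁻¹ = n₀ * (d.t : G) * n₀⁻¹ := congrArg Subtype.val hyt
      show n₁ * (d.t : G) = d.t * n₁
      calc n₁ * (d.t : G) = (y : G)⁻¹ * (n₀ * (d.t : G) * n₀⁻¹) * n₀ := by rw [hn₁]; group
        _ = (d.t : G) * n₁ := by rw [← e0, hn₁]; group
    -- an element of odd order
    obtain ⟨n, hnN, hnT, hnt, hno⟩ : ∃ n ∈ Subgroup.normalizer ((S : Subgroup G) : Set G),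
        n ∉ T ∧ Commute n (d.t : G) ∧ Odd (orderOf n) := by
      by_cases he : 2 ∣ orderOf n₁
      · rcases h.two n₁ he with e | e
        · exact absurd (hinvol _ e) hn₁T
        obtain ⟨h1, h2⟩ := hsplit n₁ e
        refine ⟨n₁ ^ 2, pow_mem hn₁N 2, fun hm => hn₁T ?_, hn₁t.pow_left 2, h2 ▸ h.odd_q⟩
        obtain ⟨c, hc⟩ := h.odd_q
        have h3 : n₁ ^ q * ((n₁ ^ 2) ^ c)⁻¹ = n₁ := by
          rw [mul_inv_eq_iff_eq_mul, ← pow_mul, ← pow_succ', hc]
        rw [← h3]
        exact mul_mem (hinvol _ h1) (inv_mem (pow_mem hm c))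
      · exact ⟨n₁, hn₁N, hn₁T, hn₁t, Nat.odd_iff.2 (by omega)⟩
    have hna' : Commute n (d.a : G) := by
      have ht2 : (d.t : G) * d.t = 1 := CfsgLib.Involutions.mul_self_eq_one dG.ord_t
      have ha1 : (d.a : G) ≠ 1 := CfsgLib.Involutions.ne_one dG.ord_a
      have hsq' : Commute (n ^ 2) (d.a : G) := by
        rcases dG.P_elems ((Subgroup.mem_normalizer_iff.1 hnN _).1 d.a_mem) with e | e | e | e
        · exact absurd (conj_eq_one_iff.1 e) ha1
        · exfalso
          refine d.ne (Subtype.ext ?_)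
          calc (d.t : G) = n⁻¹ * (n * (d.t : G)) := by group
            _ = n⁻¹ * ((d.t : G) * n) := by rw [hnt.eq]
            _ = n⁻¹ * (n * (d.a : G) * n⁻¹ * n) := by rw [show n * (d.a : G) * n⁻¹ = (d.t : G) from e]
            _ = (d.a : G) := by group
        · exact (show Commute n (d.a : G) from mul_inv_eq_iff_eq_mul.1 e).pow_left 2
        · have e' : n * (d.a : G) * n⁻¹ = (d.a : G) * d.t := e
          show n ^ 2 * (d.a : G) = d.a * n ^ 2
          calc n ^ 2 * (d.a : G) = n * (n * (d.a : G) * n⁻¹) * n := by rw [pow_two]; group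
            _ = n * ((d.a : G) * d.t) * n := by rw [e']
            _ = (n * (d.a : G) * n⁻¹) * (n * d.t) * n := by group
            _ = (d.a : G) * (d.t * (d.t : G)) * n ^ 2 := by rw [e', hnt.eq, pow_two]; group
            _ = d.a * n ^ 2 := by rw [ht2, mul_one]
      obtain ⟨c, hc⟩ := hno
      have : n = ((n ^ 2) ^ c)⁻¹ := by
        rw [eq_inv_iff_mul_eq_one, ← pow_mul, ← pow_succ', ← hc, pow_orderOf_eq_one]
      rw [this]
      exact (hsq'.pow_left c).inv_left
    have hnP : ∀ p ∈ (S : Subgroup G), Commute n p := fun p hp => by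
      rcases dG.P_elems hp with rfl | rfl | rfl | rfl
      exacts [Commute.one_right n, hnt, hna', hna'.mul_right hnt]
    have hDG : dG.D ≠ ⊥ := fun e => hnT (by
      have := mem_D_of_commute dG hno hnP
      rw [e, Subgroup.mem_bot] at this
      rw [this]; exact one_mem T)
    have hcore := core_eq_D h dG hDG
    -- an element of order `q` of `T` centralising `t`
    have h1 : orderOf (gT ^ q) = 2 ∧ orderOf (gT ^ 2) = q := by
      have := hsplit (gT : G) (by rw [Subgroup.orderOf_coe, hgT])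
      rw [← Subgroup.coe_pow, ← Subgroup.coe_pow, Subgroup.orderOf_coe, Subgroup.orderOf_coe] at this
      exact this
    obtain ⟨c, hc⟩ := isConj_iff.1 (d.oneClass _ h1.1)
    set v := c⁻¹ * gT ^ 2 * c with hvdef
    have hvq : orderOf v = q := by
      rw [hvdef, show c⁻¹ * gT ^ 2 * c = c⁻¹ * gT ^ 2 * c⁻¹⁻¹ by rw [inv_inv],
        CfsgLib.Involutions.orderOf_conj, h1.2]
    have hvt : Commute v d.t := by
      rw [hvdef, show d.t = c⁻¹ * gT ^ q * c by rw [← hc]; group]
      show _ = _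
      calc c⁻¹ * gT ^ 2 * c * (c⁻¹ * gT ^ q * c) = c⁻¹ * (gT ^ 2 * gT ^ q) * c := by group
        _ = c⁻¹ * (gT ^ q * gT ^ 2) * c := by rw [(Commute.pow_pow_self gT 2 q).eq]
        _ = c⁻¹ * gT ^ q * c * (c⁻¹ * gT ^ 2 * c) := by group
    have hvD : (v : G) ∈ dG.D := hcore ▸ dG.mem_core
      (Subgroup.mem_centralizer_singleton_iff.2 (congrArg Subtype.val hvt.eq))
      (by rw [Subgroup.orderOf_coe, hvq]; exact h.odd_q)
    have hva : Commute v d.a := Subtype.ext (Subgroup.mem_centralizer_singleton_iff.1 hvD.2)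
    have hv0 : v ∈ d.D := ⟨d.mem_core (Subgroup.mem_centralizer_singleton_iff.2 hvt.eq)
      (hvq ▸ h.odd_q), Subgroup.mem_centralizer_singleton_iff.2 hva.eq⟩
    rw [hDT, Subgroup.mem_bot] at hv0
    rw [hv0, orderOf_one] at hvq
    exact h.hq.ne_one hvq.symm
  subst htop
  have e' := (Subgroup.topEquiv (G := G)).symm.trans e
  have hP' := (h.of_injective e'.symm.toMonoidHom e'.symm.injective).sylow_comm
  have hq3 : 3 < Fintype.card F := by
    by_contra hle
    have h3 : Fintype.card F = 3 := by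
      obtain ⟨c, hc⟩ := hodd
      have := Fintype.one_lt_card (α := F)
      omega
    refine hns (CfsgLib.CharTheory.isSolvable_of_card_dvd_pow_mul_pow 2 3 2 1 Nat.prime_two Nat.prime_three
      (dvd_of_eq ?_))
    rw [Nat.card_congr e'.toEquiv, CfsgLib.SL2.card_PSL, Nat.card_eq_fintype_card, h3]
    norm_num
  refine ⟨F, hF, hFt, ?_, CfsgLib.PSLKleinAut.card_mod_eight hodd hq3 default (hP' _), ⟨e'⟩⟩
  by_contra hle
  have h5 : Fintype.card F = 5 := by
    obtain ⟨c, hc⟩ := hodd
    omega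
  haveI : IsSimpleGroup G := (Subgroup.topEquiv (G := G)).symm.isSimpleGroup
  obtain ⟨iso⟩ := Cfsg.Agent.S0494.result (G := G) (by
    rw [Nat.card_congr e'.toEquiv, CfsgLib.SL2.card_PSL, Nat.card_eq_fintype_card, h5]
    norm_num)
  obtain ⟨g, hg⟩ := hex
  have := CfsgLib.SL2.Dickson.orderOf_alternating_five_le (iso g)
  rw [MulEquiv.orderOf_eq, hg] at this
  have := h.two_lt
  omega

end CfsgLib.NoThreeOrders
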